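import Mathlib

/-!
# Continuous Hilbert 90 for a separable closure

A locally constant (additive or multiplicative) 1-cocycle of the automorphism group of a separable
closure is a coboundary.
-/

universe u

namespace Groth.Agent.GalH90Cont

variable {K L : Type u} [Field K] [Field L] [Algebra K L] [IsSepClosure K L]

/-- An automorphism extending a given embedding. -/
theorem exists_extend (F : IntermediateField K L) (ψ : F →ₐ[K] L) :
    ∃ σ : L ≃ₐ[K] L, ∀ x : F, σ x = ψ x :=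
  ⟨AlgEquiv.ofBijective (ψ.liftNormal L) (AlgHom.normal_bijective K L L _),
    fun x => by simpa using AlgHom.liftNormal_commutes ψ L x⟩

theorem exists_level {M : Type*} (a : (L ≃ₐ[K] L) → M) (m₀ : M) (h1 : a 1 = m₀)
    (hlc : IsLocallyConstant a) :
    ∃ F : IntermediateField K L, FiniteDimensional K F ∧ ∀ n : L ≃ₐ[K] L, (∀ x : F, n x = x) → a n = m₀ := by
  have hmem : a ⁻¹' {m₀} ∈ nhds (1 : L ≃ₐ[K] L) := (hlc.isOpen_fiber m₀).mem_nhds h1
  obtain ⟨F, hF, hsub⟩ := (krullTopology_mem_nhds_one_iff K L _).mp hmem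
  exact ⟨F, hF, fun n hn => hsub ((IntermediateField.mem_fixingSubgroup_iff F n).mpr fun x hx => hn ⟨x, hx⟩)⟩

/-- Additive Hilbert 90. -/
theorem exists_eq_sub (a : (L ≃ₐ[K] L) → L) (ha : ∀ σ τ : L ≃ₐ[K] L, a (σ * τ) = a σ + σ (a τ))
    (hlc : IsLocallyConstant a) : ∃ y : L, ∀ σ : L ≃ₐ[K] L, a σ = σ y - y := by
  classical
  have h1 : a 1 = 0 := by simpa using ha 1 1
  obtain ⟨F, hF, hn⟩ := exists_level a 0 h1 hlc
  have hcongr : ∀ σ τ : L ≃ₐ[K] L, (∀ x : F, σ x = τ x) → a σ = a τ := by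
    intro σ τ h
    have e : a (σ * (σ⁻¹ * τ)) = a σ + σ (a (σ⁻¹ * τ)) := ha _ _
    rw [hn (σ⁻¹ * τ) (fun x => by change σ.symm (τ x) = x; rw [← h x, σ.symm_apply_apply]), map_zero, add_zero,
      mul_inv_cancel_left] at e
    exact e.symm
  choose ext hext using exists_extend F
  haveI : Fintype (F →ₐ[K] L) := Fintype.ofFinite _
  let T : F → L := fun t => ∑ ψ : F →ₐ[K] L, ψ t
  obtain ⟨t, ht⟩ : ∃ t, T t ≠ 0 := by
    by_contra hT
    push Not at hT
    have hli := Fintype.linearIndependent_iff.mp (linearIndependent_algHom_toLinearMap K F L) (fun _ => 1)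
      (LinearMap.ext fun x => by simpa [T] using hT x)
    exact one_ne_zero (hli F.val)
  have hperm : ∀ (τ : L ≃ₐ[K] L) (G : (F →ₐ[K] L) → L),
      ∑ ψ : F →ₐ[K] L, G (τ.toAlgHom.comp ψ) = ∑ ψ, G ψ := fun τ G =>
    Fintype.sum_equiv ⟨fun ψ => τ.toAlgHom.comp ψ, fun ψ => τ.symm.toAlgHom.comp ψ,
      fun ψ => AlgHom.ext fun x => by simp, fun ψ => AlgHom.ext fun x => by simp⟩ _ _ (fun _ => rfl)
  have hT : ∀ τ : L ≃ₐ[K] L, τ (T t) = T t := fun τ => by
    rw [map_sum]; exact hperm τ (fun ψ => ψ t)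
  refine ⟨-(∑ ψ : F →ₐ[K] L, a (ext ψ) * ψ t) / T t, fun τ => ?_⟩
  have key : τ (∑ ψ : F →ₐ[K] L, a (ext ψ) * ψ t) = ∑ ψ : F →ₐ[K] L, a (ext ψ) * ψ t - a τ * T t := by
    have e1 : ∀ ψ : F →ₐ[K] L, τ (a (ext ψ)) = a (ext (τ.toAlgHom.comp ψ)) - a τ := by
      intro ψ
      rw [hcongr (ext (τ.toAlgHom.comp ψ)) (τ * ext ψ) (fun x => by rw [hext, AlgEquiv.mul_apply, hext]; rfl), ha]
      ring
    rw [map_sum]
    simp only [map_mul, e1]
    rw [← hperm τ (fun ψ => a (ext ψ) * ψ t),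
      show T t = ∑ ψ : F →ₐ[K] L, (τ.toAlgHom.comp ψ) t from (hperm τ (fun ψ => ψ t)).symm,
      Finset.mul_sum, ← Finset.sum_sub_distrib]
    refine Finset.sum_congr rfl fun ψ _ => ?_
    change (a (ext (τ.toAlgHom.comp ψ)) - a τ) * τ (ψ t) =
      a (ext (τ.toAlgHom.comp ψ)) * τ (ψ t) - a τ * τ (ψ t)
    ring
  rw [map_div₀, map_neg, key, hT]
  field_simp
  ring

/-- Multiplicative Hilbert 90. -/
theorem exists_eq_div (a : (L ≃ₐ[K] L) → Lˣ) (ha : ∀ σ τ : L ≃ₐ[K] L, a (σ * τ) = a σ * σ • a τ)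
    (hlc : IsLocallyConstant a) : ∃ c : Lˣ, ∀ σ : L ≃ₐ[K] L, a σ = c⁻¹ * σ • c := by
  classical
  have h1 : a 1 = 1 := by simpa using ha 1 1
  obtain ⟨F, hF, hn⟩ := exists_level a 1 h1 hlc
  have hcongr : ∀ σ τ : L ≃ₐ[K] L, (∀ x : F, σ x = τ x) → a σ = a τ := by
    intro σ τ h
    have e : a (σ * (σ⁻¹ * τ)) = a σ * σ • a (σ⁻¹ * τ) := ha _ _
    rw [hn (σ⁻¹ * τ) (fun x => by change σ.symm (τ x) = x; rw [← h x, σ.symm_apply_apply]), smul_one, mul_one,
      mul_inv_cancel_left] at e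
    exact e.symm
  choose ext hext using exists_extend F
  haveI : Fintype (F →ₐ[K] L) := Fintype.ofFinite _
  let S : F → L := fun t => ∑ ψ : F →ₐ[K] L, (a (ext ψ) : L) * ψ t
  obtain ⟨t, ht⟩ : ∃ t, S t ≠ 0 := by
    by_contra hS
    push Not at hS
    have hli := Fintype.linearIndependent_iff.mp (linearIndependent_algHom_toLinearMap K F L) (fun ψ => (a (ext ψ) : L))
      (LinearMap.ext fun x => by simpa [S] using hS x)
    exact (a _).ne_zero (hli F.val)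
  refine ⟨(Units.mk0 (S t) ht)⁻¹, fun τ => ?_⟩
  have key : (a τ : L) * τ (S t) = S t := by
    have e1 : ∀ ψ : F →ₐ[K] L, (a τ : L) * τ (a (ext ψ) : L) = (a (ext (τ.toAlgHom.comp ψ)) : L) := by
      intro ψ
      rw [hcongr (ext (τ.toAlgHom.comp ψ)) (τ * ext ψ) (fun x => by rw [hext, AlgEquiv.mul_apply, hext]; rfl), ha]
      rfl
    rw [map_sum, Finset.mul_sum]
    refine Fintype.sum_equiv ⟨fun ψ => τ.toAlgHom.comp ψ, fun ψ => τ.symm.toAlgHom.comp ψ,
      fun ψ => AlgHom.ext fun x => by simp, fun ψ => AlgHom.ext fun x => by simp⟩ _ _ (fun ψ => ?_)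
    rw [map_mul, ← mul_assoc, e1]
    rfl
  rw [inv_inv]
  ext
  change (a τ : L) = S t * τ ((((Units.mk0 (S t) ht)⁻¹ : Lˣ) : L))
  rw [Units.val_inv_eq_inv_val, Units.val_mk0, map_inv₀]
  have : τ (S t) ≠ 0 := by simpa using ht
  field_simp
  linear_combination key

end Groth.Agent.GalH90Cont
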